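import Mathlib
import Cfsg.Prelude
import Cfsg.Agent.H647.Four
import Cfsg.Agent.H524.ClassSize
import Cfsg.Agent.H524.SqfBasic
import Cfsg.Agent.Lib.HallHigman
import Cfsg.Agent.Lib.CoprimeStab
import Cfsg.Agent.OddOrderLocal.RankTwoSolvable

/-!
# Class sizes of prime power elements not divisible by `p²` (S4131)

* `commute_of_small` : a normal `p`-subgroup is centralised by the elements of order `r ^ k`, `p < r`, whose class
  size is not divisible by `p ^ 2`;
* `solvable_of_four` : if the class sizes of the elements of odd prime power order are not divisible by four, then the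
  group is soluble (given `Four` for the simple groups);
* `hasNormalPComplement` : the soluble case.
-/

set_option autoImplicit false

namespace Cfsg.Agent.H32.FourRed

open Subgroup Cfsg.Agent.H524.ClassSize Cfsg.Agent.H524.Sqf
open scoped commutatorElement

universe u

/-- `p²` divides no class size of an element whose order is a power of a prime different from `p`. -/
def SqCond (G : Type*) [Group G] (p : ℕ) : Prop :=
  ∀ x : G, (∃ r k : ℕ, r.Prime ∧ r ≠ p ∧ orderOf x = r ^ k) → ¬ p ^ 2 ∣ (centralizer ({x} : Set G)).index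

section

variable {G : Type*} [Group G]

theorem exists_lift [Finite G] {H : Type*} [Group H] (f : G →* H) (hf : Function.Surjective f) {y : H} {r k : ℕ}
    (hr : r.Prime) (hy : orderOf y = r ^ k) : ∃ x : G, f x = y ∧ ∃ j, orderOf x = r ^ j := by
  have : Fact r.Prime := ⟨hr⟩
  obtain ⟨x, rfl⟩ := hf y
  obtain ⟨a, b, hab, hc, ha, hb, haz, hbz⟩ := exists_decomp r x
  refine ⟨a, ?_, ha⟩
  have h1 : orderOf (f b) ∣ r ^ k := by
    rw [← hy]
    obtain ⟨n, rfl⟩ := hbz
    simp only [map_zpow]
    exact orderOf_dvd_of_mem_zpowers ⟨n, rfl⟩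
  have h2 : orderOf (f b) ∣ orderOf b := orderOf_map_dvd f b
  have h3 : orderOf (f b) = 1 := by
    have h4 : (orderOf (f b)).Coprime (r ^ k) :=
      (Nat.Coprime.coprime_dvd_left h2 hb).pow_right k
    exact Nat.eq_one_of_dvd_coprimes h4 dvd_rfl h1
  rw [orderOf_eq_one_iff] at h3
  rw [← hab, map_mul, h3, mul_one]

theorem SqCond.of_surjective [Finite G] {H : Type*} [Group H] {p : ℕ} (h : SqCond G p) (f : G →* H)
    (hf : Function.Surjective f) : SqCond H p := by
  rintro x ⟨r, k, hr, hne, hx⟩ hd
  obtain ⟨y, rfl, j, hj⟩ := exists_lift f hf hr hx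
  have h1 : centralizer ({y} : Set G) ≤ (centralizer ({f y} : Set H)).comap f := by
    intro z hz
    rw [mem_centralizer_singleton_iff] at hz
    rw [mem_comap, mem_centralizer_singleton_iff, ← map_mul, hz, map_mul]
  have h2 := Subgroup.index_dvd_of_le h1
  rw [Subgroup.index_comap_of_surjective _ hf] at h2
  exact h y ⟨r, j, hr, hne, hj⟩ (hd.trans h2)

theorem SqCond.normal [Finite G] {p : ℕ} (h : SqCond G p) (N : Subgroup G) [N.Normal] : SqCond N p := by
  rintro x ⟨r, k, hr, hne, hx⟩ hd
  have h1 : (centralizer ({x} : Set N)) = (centralizer ({(x : G)} : Set G)).subgroupOf N := by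
    ext y
    rw [mem_centralizer_singleton_iff, mem_subgroupOf, mem_centralizer_singleton_iff,
      Subtype.ext_iff]
    rfl
  rw [h1] at hd
  refine h (x : G) ⟨r, k, hr, hne, ?_⟩ (hd.trans (relIndex_dvd N _))
  rw [Subgroup.orderOf_coe, hx]

/-- Elements of prime power order `r ^ k`, `p < r`, with class size not divisible by `p ^ 2` centralise the normal
`p`-subgroups. -/
theorem commute_of_small [Finite G] {p r k : ℕ} (hp : p.Prime) (hr : r.Prime) (hpr : p < r) {V : Subgroup G}
    [hVn : V.Normal] (hV : IsPGroup p V) {x : G} (hx : orderOf x = r ^ k)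
    (h : ¬ p ^ 2 ∣ (centralizer ({x} : Set G)).index) : ∀ v ∈ V, Commute v x := by
  have : Fact p.Prime := ⟨hp⟩
  set C := centralizer ({x} : Set G) with hC
  set K := C.subgroupOf V with hK
  have hdvd : K.index ∣ C.index := relIndex_dvd V C
  obtain ⟨j, hj⟩ : ∃ j, K.index = p ^ j := by
    obtain ⟨n, hn⟩ := IsPGroup.iff_card.mp hV
    have h1 : K.index ∣ p ^ n := by rw [← hn]; exact K.index_dvd_card
    obtain ⟨j, -, hj⟩ := (Nat.dvd_prime_pow hp).mp h1
    exact ⟨j, hj⟩
  have hj1 : j ≤ 1 := by
    by_contra hcon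
    apply h
    refine dvd_trans ?_ hdvd
    rw [hj]
    exact pow_dvd_pow p (by omega)
  -- `x` fixes the elements of `K`
  let φ : MulAut V := MulAut.conjNormal x
  have hφ : ∀ v : V, (φ v : G) = x * v * x⁻¹ := fun v => MulAut.conjNormal_apply x v
  have hφK : ∀ v ∈ K, φ v = v := by
    intro v hv
    apply Subtype.ext
    rw [hφ]
    have h1 : (v : G) ∈ C := hv
    rw [hC, mem_centralizer_singleton_iff] at h1
    rw [mul_inv_eq_iff_eq_mul]
    exact h1.symm
  have hφK' : ∀ v ∈ K, φ⁻¹ v = v := by
    intro v hv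
    rw [MulAut.inv_apply, MulEquiv.symm_apply_eq]
    exact (hφK v hv).symm
  -- the permutation of the cosets of `K`
  let σ : Equiv.Perm (V ⧸ K) :=
    { toFun := Quotient.map' φ (fun a b hab => by
        rw [QuotientGroup.leftRel_apply] at hab ⊢
        have := hφK _ hab
        rw [map_mul, map_inv] at this
        rw [this]
        exact hab)
      invFun := Quotient.map' (φ⁻¹ : MulAut V) (fun a b hab => by
        rw [QuotientGroup.leftRel_apply] at hab ⊢
        have := hφK' _ hab
        rw [map_mul, map_inv] at this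
        rw [this]
        exact hab)
      left_inv := by
        intro q
        induction q using Quotient.inductionOn' with
        | h a =>
          simp only [Quotient.map'_mk'', MulAut.inv_apply_self]
      right_inv := by
        intro q
        induction q using Quotient.inductionOn' with
        | h a =>
          simp only [Quotient.map'_mk'', MulAut.apply_inv_self] }
  have hσ : ∀ (n : ℕ) (v : V), (σ ^ n) (QuotientGroup.mk v) = QuotientGroup.mk ((φ ^ n) v) := by
    intro n
    induction n with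
    | zero => intro v; simp
    | succ n ih =>
      intro v
      rw [pow_succ', Equiv.Perm.mul_apply, ih, pow_succ', MulAut.mul_apply]
      rfl
  have hσ1 : σ ^ (r ^ k) = 1 := by
    ext q
    induction q using QuotientGroup.induction_on with
    | H v =>
      rw [hσ]
      have : φ ^ (r ^ k) = 1 := by
        change (MulAut.conjNormal x : MulAut V) ^ (r ^ k) = 1
        rw [← map_pow, ← hx, pow_orderOf_eq_one, map_one]
      rw [this]
      rfl
  have hcard : Nat.card (V ⧸ K) = p ^ j := hj
  have hord : orderOf σ = 1 := by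
    have h1 : orderOf σ ∣ r ^ k := orderOf_dvd_of_pow_eq_one hσ1
    have h2 : orderOf σ ∣ (p ^ j).factorial := by
      have h3 := orderOf_dvd_natCard σ
      rwa [Nat.card_perm, hcard] at h3
    have h3 : Nat.Coprime (r ^ k) (p ^ j).factorial := by
      apply Nat.Coprime.pow_left
      rw [Nat.Prime.coprime_iff_not_dvd hr, hr.dvd_factorial, not_le]
      calc p ^ j ≤ p ^ 1 := Nat.pow_le_pow_right hp.pos hj1
        _ = p := pow_one p
        _ < r := hpr
    exact Nat.eq_one_of_dvd_coprimes h3 h1 h2
  rw [orderOf_eq_one_iff] at hord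
  intro v hv
  have h1 : σ (QuotientGroup.mk ⟨v, hv⟩) = QuotientGroup.mk ⟨v, hv⟩ := by rw [hord]; rfl
  have h2 := hσ 1 ⟨v, hv⟩
  rw [pow_one, h1, pow_one] at h2
  have h3 := (QuotientGroup.eq).mp h2
  have h4 : v⁻¹ * (x * v * x⁻¹) ∈ C := by
    have h5 : ((⟨v, hv⟩ : V)⁻¹ * φ ⟨v, hv⟩ : V) ∈ K := h3
    have h6 := mem_subgroupOf.mp h5
    rw [Subgroup.coe_mul, hφ, Subgroup.coe_inv] at h6
    exact h6
  -- `[v⁻¹, x] ∈ C ∩ V`
  have h5 : Commute ⁅v⁻¹, x⁆ x := by
    have h6 : ⁅v⁻¹, x⁆ = v⁻¹ * (x * v * x⁻¹) := by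
      rw [commutatorElement_def]; group
    rw [h6]
    rw [hC, mem_centralizer_singleton_iff] at h4
    exact h4
  have h7 : Commute v⁻¹ x := by
    refine Lib.CoprimeStab.commute_of_commutator_commute (H := V) ?_ ?_ h5
    · obtain ⟨n, hn⟩ := IsPGroup.iff_card.mp hV
      rw [hx, hn]
      exact Nat.Coprime.pow _ _ ((Nat.coprime_primes hr hp).2 hpr.ne')
    · have h6 : ⁅v⁻¹, x⁆ = v⁻¹ * (x * v * x⁻¹) := by
        rw [commutatorElement_def]; group
      rw [h6]
      exact mul_mem (inv_mem hv) (hVn.conj_mem v hv x)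
  exact (Commute.inv_left_iff).mp h7

end

/-- If the class sizes of the elements of odd prime power order are not divisible by `4` then the group is soluble. -/
theorem solvable_of_four
    (hS : ∀ (X : Type u) [Group X] [Finite X] [IsSimpleGroup X], ¬ IsMulCommutative X → H647.Four X) :
    ∀ (n : ℕ) (G : Type u) [Group G] [Finite G], Nat.card G = n → SqCond G 2 → Group.IsSolvable G := by
  intro n
  induction n using Nat.strong_induction_on with
  | _ n ih =>
    intro G _ _ hn h
    rcases subsingleton_or_nontrivial G with hs | hnt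
    · infer_instance
    by_cases hex : ∃ N : Subgroup G, N.Normal ∧ N ≠ ⊥ ∧ N ≠ ⊤
    · obtain ⟨N, hN, hb, ht⟩ := hex
      have hcard := Subgroup.card_eq_card_quotient_mul_card_subgroup N
      have hq : 0 < Nat.card (G ⧸ N) := Nat.card_pos
      have hN0 : 0 < Nat.card N := Nat.card_pos
      have hN1 : Nat.card N ≠ 1 := fun h1 => hb (Subgroup.card_eq_one.mp h1)
      have hq1 : Nat.card (G ⧸ N) ≠ 1 := fun h1 => ht (Subgroup.index_eq_one.mp h1)
      have h1 : Group.IsSolvable N := by
        refine ih (Nat.card N) ?_ N rfl (h.normal N)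
        rw [← hn, hcard]
        have : 2 ≤ Nat.card (G ⧸ N) := by omega
        nlinarith
      have h2 : Group.IsSolvable (G ⧸ N) := by
        refine ih (Nat.card (G ⧸ N)) ?_ (G ⧸ N) rfl
          (h.of_surjective (QuotientGroup.mk' N) (QuotientGroup.mk'_surjective N))
        rw [← hn, hcard]
        have : 2 ≤ Nat.card N := by omega
        nlinarith
      exact Group.isSolvable_of_ker_le_range N.subtype (QuotientGroup.mk' N) (by simp)
    · push Not at hex
      have hsim : IsSimpleGroup G :=
        { exists_pair_ne := exists_pair_ne G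
          eq_bot_or_eq_top_of_normal := fun N hN => by
            by_cases hb : N = ⊥
            · exact Or.inl hb
            · exact Or.inr (hex N hN hb) }
      by_cases hc : IsMulCommutative G
      · exact Group.isSolvable_of_comm (fun a b => hc.is_comm.comm a b)
      · exfalso
        obtain ⟨x, ⟨r, k, hr, hr2, hx⟩, h4⟩ := hS G hc
        exact h x ⟨r, k, hr, hr2, hx⟩ (by simpa using h4)

/-- The soluble case: a normal `p`-complement. -/
theorem hasNormalPComplement {G : Type*} [Group G] [Finite G] [Group.IsSolvable G] {p : ℕ} [hp : Fact p.Prime]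
    (hmin : ∀ r : ℕ, r.Prime → r ∣ Nat.card G → p ≤ r) (h : SqCond G p) : Cfsg.HasNormalPComplement p G := by
  set N := Cfsg.pPrimeCore p G with hN
  have hNn : N.Normal := Lib.HallHigman.pPrimeCore_normal p
  have hNc : (Nat.card N).Coprime p := Lib.HallHigman.pPrimeCore_coprime p
  have hQ0 : Cfsg.pPrimeCore p (G ⧸ N) = ⊥ := Lib.HallHigman.pPrimeCore_quotient_eq_bot p N hN
  have hcent := Lib.HallHigman.centralizer_pCore_le_of_solvable (G := G ⧸ N) p hQ0
  have hQ : SqCond (G ⧸ N) p := h.of_surjective (QuotientGroup.mk' N) (QuotientGroup.mk'_surjective N)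
  have hVn : (Cfsg.pCore p (G ⧸ N)).Normal := Lib.HallHigman.pCore_normal p
  have hVp : IsPGroup p (Cfsg.pCore p (G ⧸ N)) := Lib.HallHigman.pCore_isPGroup p
  have hpgrp : IsPGroup p (G ⧸ N) := by
    rw [IsPGroup.iff_card]
    by_contra hcon
    obtain ⟨r, hr, hrd, hne⟩ : ∃ r : ℕ, r.Prime ∧ r ∣ Nat.card (G ⧸ N) ∧ r ≠ p := by
      by_contra hno
      push Not at hno
      exact hcon ⟨_, Nat.eq_prime_pow_of_unique_prime_dvd Nat.card_pos.ne' (fun {q} hq hqd => hno q hq hqd)⟩
    have : Fact r.Prime := ⟨hr⟩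
    obtain ⟨x, hx⟩ := exists_prime_orderOf_dvd_card' r hrd
    have hpr : p < r := by
      refine lt_of_le_of_ne (hmin r hr (hrd.trans ?_)) hne.symm
      exact (Subgroup.card_eq_card_quotient_mul_card_subgroup N) ▸ Dvd.intro _ rfl
    have h1 := commute_of_small (V := Cfsg.pCore p (G ⧸ N)) hp.out hr hpr hVp (k := 1)
      (by rw [hx, pow_one]) (hQ x ⟨r, 1, hr, hne, by rw [hx, pow_one]⟩)
    have h2 : x ∈ Cfsg.pCore p (G ⧸ N) := by
      apply hcent
      rw [mem_centralizer_iff]
      intro v hv
      exact (h1 v hv).eq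
    obtain ⟨k, hk⟩ := IsPGroup.iff_orderOf.mp hVp ⟨x, h2⟩
    rw [Subgroup.orderOf_mk, hx] at hk
    have h3 : r ∣ p ^ k := by rw [← hk]
    exact hne ((Nat.prime_dvd_prime_iff_eq hr hp.out).1 (hr.dvd_of_dvd_pow h3))
  obtain ⟨n, hn⟩ := IsPGroup.iff_card.mp hpgrp
  exact OddOrderLocal.RankTwoSolvable.hasNormalPComplement_of hNn hNc hn

/-- The theorem, from the odd order theorem and the rows. -/
theorem main {G : Type u} [Group G] [Finite G] {p : ℕ} [hp : Fact p.Prime]
    (hodd : Odd (Nat.card G) → Group.IsSolvable G)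
    (hS : ∀ (X : Type u) [Group X] [Finite X] [IsSimpleGroup X], ¬ IsMulCommutative X → H647.Four X)
    (hmin : ∀ r : ℕ, r.Prime → r ∣ Nat.card G → p ≤ r) (h : SqCond G p) :
    Cfsg.HasNormalPComplement p G ∧ Group.IsSolvable G := by
  have hsol : Group.IsSolvable G := by
    by_cases h2 : 2 ∣ Nat.card G
    · have hp2 : p = 2 := le_antisymm (hmin 2 Nat.prime_two h2) hp.out.two_le
      subst hp2
      exact solvable_of_four hS _ G rfl h
    · exact hodd (Nat.not_even_iff_odd.mp (fun he => h2 he.two_dvd))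
  exact ⟨hasNormalPComplement hmin h, hsol⟩

end Cfsg.Agent.H32.FourRed
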